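import Mathlib
import Cfsg.Agent.ClassBase.SL

set_option autoImplicit false

/-! Simplicity of `PSL_n(F)` (any finite index type) from perfectness of `SL_n(F)`. -/

namespace Cfsg.Agent.ClassBase

open Matrix Matrix.SpecialLinearGroup MulAction
open scoped LinearAlgebra.Projectivization Pointwise

variable {ι F : Type*} [Field F] [Fintype ι] [DecidableEq ι]

lemma iSup_lineStab_eq_top [Nontrivial ι] :
    (⨆ p : ℙ F (ι → F), lineStab p.submodule) = (⊤ : Subgroup (Matrix.SpecialLinearGroup ι F)) := by
  rw [eq_top_iff]
  intro M _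
  refine transvection_induction (fun M => M ∈ (⨆ p : ℙ F (ι → F), lineStab p.submodule)) ?_
    (fun A B => mul_mem) M
  intro i j hij a
  have h1 : SpecialLinearGroup.transvection hij a ∈
      lineStab (Projectivization.mk F (Pi.single i (1 : F) : ι → F)
        (Pi.single_ne_zero_iff.2 one_ne_zero)).submodule := by
    rw [Projectivization.submodule_mk]
    exact SL2Gen.transvection_mem_lineStab hij a
  exact (le_iSup (fun p : ℙ F (ι → F) => lineStab p.submodule) _) h1

lemma iSup_iwasawaT_eq_top [Nontrivial ι] :
    iSup (PSL.iwasawaT (F := F) (ι := ι)) = ⊤ := by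
  have step1 : iSup (PSL.iwasawaT (F := F) (ι := ι)) =
      Subgroup.map (QuotientGroup.mk' (Subgroup.center (Matrix.SpecialLinearGroup ι F)))
        (⨆ p : ℙ F (ι → F),
          Matrix.SpecialLinearGroup.lineStab (F := F) (ι := ι) p.submodule) := by
    rw [Subgroup.map_iSup]
  rw [step1, iSup_lineStab_eq_top]
  exact Subgroup.map_top_of_surjective _ (QuotientGroup.mk'_surjective _)

/-- The Iwasawa structure on `PSL(ι, F)`. -/
noncomputable def pslIwasawa [Nontrivial ι] :
    IwasawaStructure (Matrix.ProjectiveSpecialLinearGroup ι F) (ℙ F (ι → F)) where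
  T := PSL.iwasawaT
  is_comm p := by
    have hSL : IsMulCommutative (lineStab (F := F) (ι := ι) p.submodule) := by
      rw [← Projectivization.mk_rep p, Projectivization.submodule_mk]
      exact lineStab_isMulCommutative_of_span p.rep p.rep_nonzero
    exact Subgroup.map_isMulCommutative _ _
  is_conj g p := by
    obtain ⟨g_SL, rfl⟩ := QuotientGroup.mk_surjective g
    rw [Matrix.ProjectiveSpecialLinearGroup.smul_proj_mk]
    change Subgroup.map _ _ = _
    rw [PSL.smul_submodule, Matrix.SpecialLinearGroup.lineStab_smul,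
      PSL.iwasawaT_map_conj]
  is_generator := iSup_iwasawaT_eq_top

theorem psl_simple_of_perfect [Nontrivial ι]
    (h : commutator (Matrix.SpecialLinearGroup ι F) = ⊤) :
    IsSimpleGroup (Matrix.ProjectiveSpecialLinearGroup ι F) := by
  have : Group.IsPerfect (Matrix.SpecialLinearGroup ι F) := ⟨h⟩
  have h2 : Group.IsPerfect (Matrix.ProjectiveSpecialLinearGroup ι F) := inferInstance
  haveI : Nontrivial (Matrix.ProjectiveSpecialLinearGroup ι F) := SL2Simple.PSL_nontrivial
  exact MulAction.IwasawaStructure.isSimpleGroup h2.commutator_eq_top pslIwasawa inferInstance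

theorem psl_fin_simple (n : ℕ) (hn : 3 ≤ n) :
    IsSimpleGroup (Matrix.ProjectiveSpecialLinearGroup (Fin n) F) := by
  haveI : Nontrivial (Fin n) := Fin.nontrivial_iff_two_le.mpr (by omega)
  exact psl_simple_of_perfect (sl_fin_commutator_eq_top n hn)

end Cfsg.Agent.ClassBase
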