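import Mathlib
import Cfsg.Agent.ClassBase.RelHom
import Cfsg.Agent.ClassBase.SmallIso

set_option autoImplicit false
set_option linter.unusedVariables false

/-! `PSL_2(9) ≅ A_6`. -/

namespace Cfsg.Agent.ClassBase.PSL29

open Equiv Matrix

/-- Model of the field with nine elements. -/
abbrev K9 := QuadraticAlgebra (ZMod 3) (-1) 0

instance k9Fact : Fact (∀ r : ZMod 3, r ^ 2 ≠ -1 + 0 * r) := ⟨by decide⟩

instance k9Fintype : Fintype K9 := Fintype.ofEquiv _ (QuadraticAlgebra.equivProd (-1 : ZMod 3) 0).symm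

lemma card_k9 : Fintype.card K9 = 9 := by
  rw [Fintype.card_congr (QuadraticAlgebra.equivProd (-1 : ZMod 3) 0), Fintype.card_prod, ZMod.card]

/-- Bit masks of the 3-subset of `Fin 6` attached to a vector. -/
def tab : List ℕ := [0, 7, 7, 7, 56, 56, 7, 56, 56, 35, 38, 37, 11, 14, 13, 19, 22, 21, 35, 37, 38, 19,
  21, 22, 11, 13, 14, 35, 19, 11, 38, 22, 14, 37, 21, 13, 28, 50, 41, 42, 25, 52, 49, 44, 26, 28, 49, 42,
  50, 44, 25, 41, 26, 52, 35, 11, 19, 37, 13, 21, 38, 14, 22, 28, 42, 49, 41, 52, 26, 50, 25, 44, 28, 41,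
  50, 49, 26, 44, 42, 52, 25]

/-- The relation between vectors and points. -/
def rel (x y : K9) (i : Fin 6) : Bool :=
  (tab.getD (27 * x.re.val + 9 * x.im.val + 3 * y.re.val + y.im.val) 0).testBit i.val

/-- The companion 3-cycles. -/
def s1 : Perm (Fin 6) := swap 0 1 * swap 1 5
def s2 : Perm (Fin 6) := swap 2 3 * swap 3 4
def s3 : Perm (Fin 6) := swap 0 1 * swap 1 2
def s4 : Perm (Fin 6) := swap 3 5 * swap 5 4

/-- The element `i`. -/
def om : K9 := ⟨0, 1⟩

set_option maxRecDepth 100000 in
lemma check1 : ∀ x y : K9, (x ≠ 0 ∨ y ≠ 0) → ∀ i, rel (x + 1 * y) y (s1 i) = rel x y i := by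
  decide +kernel

set_option maxRecDepth 100000 in
lemma check2 : ∀ x y : K9, (x ≠ 0 ∨ y ≠ 0) → ∀ i, rel (x + om * y) y (s2 i) = rel x y i := by
  decide +kernel

set_option maxRecDepth 100000 in
lemma check3 : ∀ x y : K9, (x ≠ 0 ∨ y ≠ 0) → ∀ i, rel x (y + 1 * x) (s3 i) = rel x y i := by
  decide +kernel

set_option maxRecDepth 100000 in
lemma check4 : ∀ x y : K9, (x ≠ 0 ∨ y ≠ 0) → ∀ i, rel x (y + om * x) (s4 i) = rel x y i := by
  decide +kernel

lemma even1 : s1 ∈ alternatingGroup (Fin 6) := by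
  rw [Perm.mem_alternatingGroup]; decide
lemma even2 : s2 ∈ alternatingGroup (Fin 6) := by
  rw [Perm.mem_alternatingGroup]; decide
lemma even3 : s3 ∈ alternatingGroup (Fin 6) := by
  rw [Perm.mem_alternatingGroup]; decide
lemma even4 : s4 ∈ alternatingGroup (Fin 6) := by
  rw [Perm.mem_alternatingGroup]; decide

lemma sep : ∀ a b : Fin 6, (∀ x y : K9, (x ≠ 0 ∨ y ≠ 0) → rel x y a = rel x y b) → a = b := by
  decide +kernel

set_option maxRecDepth 100000 in
lemma scal : ∀ r : K9, r * r = 1 → ∀ x y : K9, ∀ i, rel (r * x) (r * y) i = rel x y i := by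
  decide +kernel

set_option maxRecDepth 100000 in
lemma par : ∀ x y z w : K9, (x ≠ 0 ∨ y ≠ 0) → (z ≠ 0 ∨ w ≠ 0) → (∀ i, rel z w i = rel x y i) →
    x * w = z * y := by
  decide +kernel

lemma decomp : ∀ c : K9, c = c.re.val • (1 : K9) + c.im.val • om := by
  decide +kernel

/-- The generating set. -/
def gens : Set (SpecialLinearGroup (Fin 2) K9) :=
  {SpecialLinearGroup.transvection zero_ne_one 1, SpecialLinearGroup.transvection zero_ne_one om,
    SpecialLinearGroup.transvection one_ne_zero 1, SpecialLinearGroup.transvection one_ne_zero om}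

lemma transv_mem {H : Subgroup (SpecialLinearGroup (Fin 2) K9)} {i j : Fin 2} (h : i ≠ j)
    (h1 : SpecialLinearGroup.transvection h (1 : K9) ∈ H)
    (h2 : SpecialLinearGroup.transvection h om ∈ H) (c : K9) :
    SpecialLinearGroup.transvection h c ∈ H := by
  let M : AddSubmonoid K9 :=
    { carrier := {c | SpecialLinearGroup.transvection h c ∈ H}
      zero_mem' := by
        change SpecialLinearGroup.transvection h 0 ∈ H
        rw [SpecialLinearGroup.transvection_coeff_zero]; exact H.one_mem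
      add_mem' := by
        intro a b ha hb
        change SpecialLinearGroup.transvection h (a + b) ∈ H
        rw [SpecialLinearGroup.transvection_add]
        exact H.mul_mem ha hb }
  have : c ∈ M := by
    rw [decomp c]
    exact M.add_mem (M.nsmul_mem h1 _) (M.nsmul_mem h2 _)
  exact this

lemma closure_gens : Subgroup.closure gens = ⊤ := by
  rw [eq_top_iff]
  intro g _
  refine ClassBase.transvection_induction (fun g => g ∈ Subgroup.closure gens) ?_
    (fun A B => mul_mem) g
  intro i j hij c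
  apply transv_mem hij
  · apply Subgroup.subset_closure
    fin_cases i <;> fin_cases j <;> simp [gens] at hij ⊢
  · apply Subgroup.subset_closure
    fin_cases i <;> fin_cases j <;> simp [gens] at hij ⊢

lemma sl_smul (g : SpecialLinearGroup (Fin 2) K9) (v : Fin 2 → K9) :
    g • v = (g : Matrix (Fin 2) (Fin 2) K9) *ᵥ v := rfl

lemma smul_t01 (c : K9) (v : Fin 2 → K9) :
    (SpecialLinearGroup.transvection (zero_ne_one (α := Fin 2)) c) • v = ![v 0 + c * v 1, v 1] := by
  rw [sl_smul, transvection_mulVec_apply]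
  funext k; fin_cases k <;> simp

lemma smul_t10 (c : K9) (v : Fin 2 → K9) :
    (SpecialLinearGroup.transvection (one_ne_zero (α := Fin 2)) c) • v = ![v 0, v 1 + c * v 0] := by
  rw [sl_smul, transvection_mulVec_apply]
  funext k; fin_cases k <;> simp

lemma ne_zero_iff (v : Fin 2 → K9) : v ≠ 0 ↔ (v 0 ≠ 0 ∨ v 1 ≠ 0) := by
  rw [Ne, funext_iff, Fin.forall_fin_two]
  simp only [Pi.zero_apply]
  tauto

lemma exists_hom : ∃ φ : SpecialLinearGroup (Fin 2) K9 →* alternatingGroup (Fin 6),
    ∀ g (x : Fin 2 → K9), x ≠ 0 → ∀ a, rel ((g • x) 0) ((g • x) 1) ((φ g : Perm (Fin 6)) a) = rel (x 0) (x 1) a := by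
  refine exists_hom_rel (X := Fin 2 → K9) (fun x => x ≠ 0) (fun x a => rel (x 0) (x 1) a) gens
    closure_gens (alternatingGroup (Fin 6)) ?_ ?_
  · have hne : ∀ (g : SpecialLinearGroup (Fin 2) K9) (x : Fin 2 → K9), (g • x ≠ 0 ↔ x ≠ 0) := by
      intro g x
      exact smul_ne_zero_iff_ne g
    rintro s (rfl | rfl | rfl | rfl)
    · refine ⟨s1, even1, fun x => ⟨hne _ _, fun hx a => ?_⟩⟩
      rw [smul_t01]
      exact check1 _ _ ((ne_zero_iff x).1 hx) a
    · refine ⟨s2, even2, fun x => ⟨hne _ _, fun hx a => ?_⟩⟩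
      rw [smul_t01]
      exact check2 _ _ ((ne_zero_iff x).1 hx) a
    · refine ⟨s3, even3, fun x => ⟨hne _ _, fun hx a => ?_⟩⟩
      rw [smul_t10]
      exact check3 _ _ ((ne_zero_iff x).1 hx) a
    · refine ⟨s4, even4, fun x => ⟨hne _ _, fun hx a => ?_⟩⟩
      rw [smul_t10]
      exact check4 _ _ ((ne_zero_iff x).1 hx) a
  · intro a b h
    apply sep
    intro x y hxy
    exact h ![x, y] ((ne_zero_iff _).2 hxy)

theorem main_k9 (hcard : Nat.card (Matrix.ProjectiveSpecialLinearGroup (Fin 2) K9) = 360) :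
    Nonempty (Matrix.ProjectiveSpecialLinearGroup (Fin 2) K9 ≃* alternatingGroup (Fin 6)) := by
  obtain ⟨φ, hφ⟩ := exists_hom
  have hne : ∀ (g : SpecialLinearGroup (Fin 2) K9) (x : Fin 2 → K9), (g • x ≠ 0 ↔ x ≠ 0) := by
    intro g x
    exact smul_ne_zero_iff_ne g
  refine quot_center_equiv φ ?_ ?_
  · ext g
    rw [MonoidHom.mem_ker, Matrix.SpecialLinearGroup.mem_center_iff]
    constructor
    · intro hg
      have key : ∀ x : Fin 2 → K9, x ≠ 0 → x 0 * (g • x) 1 = (g • x) 0 * x 1 := by
        intro x hx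
        apply par _ _ _ _ ((ne_zero_iff x).1 hx) ((ne_zero_iff _).1 ((hne g x).2 hx))
        intro i
        have := hφ g x hx i
        rw [hg] at this
        exact this
      have k1 := key ![1, 0] (by rw [ne_zero_iff]; left; simp)
      have k2 := key ![0, 1] (by rw [ne_zero_iff]; right; simp)
      have k3 := key ![1, 1] (by rw [ne_zero_iff]; right; simp)
      simp only [sl_smul, Matrix.mulVec, dotProduct, Fin.sum_univ_two] at k1 k2 k3
      simp at k1 k2 k3
      have hdet := g.det_coe
      rw [Matrix.det_fin_two] at hdet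
      rw [k1, ← k2, zero_add, add_zero] at k3
      refine ⟨g 0 0, ?_, ?_⟩
      · rw [k3, k1, mul_zero, sub_zero] at hdet
        rw [Fintype.card_fin, sq]
        exact hdet
      · apply Matrix.ext
        intro i j
        fin_cases i <;> fin_cases j <;> simp [k1, ← k2, k3]
    · rintro ⟨r, hr, hg⟩
      rw [Fintype.card_fin, sq] at hr
      apply Subtype.ext
      ext a
      congr 1
      apply sep
      intro x y hxy
      have h1 := hφ g ![x, y] ((ne_zero_iff _).2 hxy) a
      have h2 : g • ![x, y] = ![r * x, r * y] := by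
        rw [sl_smul, ← hg]
        funext k; fin_cases k <;> simp [Matrix.mulVec, dotProduct]
      rw [h2] at h1
      have h3 := scal r hr x y ((φ g : Perm (Fin 6)) a)
      simp only [Matrix.cons_val_zero, Matrix.cons_val_one] at h1
      rw [h3] at h1
      exact h1
  · have h360 : Nat.card (alternatingGroup (Fin 6)) = 360 := by
      rw [Nat.card_eq_fintype_card]
      have := two_mul_card_alternatingGroup (α := Fin 6)
      rw [Fintype.card_perm, Fintype.card_fin] at this
      have h720 : Nat.factorial 6 = 720 := by decide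
      omega
    rw [h360]
    exact hcard

end Cfsg.Agent.ClassBase.PSL29
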