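import Mathlib
import Cfsg.Agent.ClassBase.RelHom
import Cfsg.Agent.ClassBase.PSL
import Cfsg.Agent.H4.CardSL

set_option autoImplicit false
set_option linter.unusedVariables false

/-! `PSL_2(7) ≅ PSL_3(2)`. -/

namespace Cfsg.Agent.ClassBase

open Equiv Matrix

/-- A nontrivial hom killing the centre, from a group simple modulo its centre, has kernel the centre. -/
theorem ker_eq_center_of_simple {G H : Type*} [Group G] [Group H]
    (hs : IsSimpleGroup (G ⧸ Subgroup.center G)) (φ : G →* H) (hZ : Subgroup.center G ≤ φ.ker)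
    (hne : φ.ker ≠ ⊤) : φ.ker = Subgroup.center G := by
  let ψ : G ⧸ Subgroup.center G →* H := QuotientGroup.lift _ φ hZ
  rcases (MonoidHom.normal_ker ψ).eq_bot_or_eq_top with h | h
  · apply le_antisymm ?_ hZ
    intro g hg
    have : (QuotientGroup.mk g : G ⧸ Subgroup.center G) ∈ ψ.ker := hg
    rw [h, Subgroup.mem_bot] at this
    exact (QuotientGroup.eq_one_iff g).1 this
  · exfalso
    apply hne
    rw [eq_top_iff]
    intro g _
    have : (QuotientGroup.mk g : G ⧸ Subgroup.center G) ∈ ψ.ker := by rw [h]; trivial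
    exact this

namespace PSL27

/-- Labels of the points of the projective line over `F_7` by vectors of `F_2^3`. -/
def tab : Fin 7 → (Fin 3 → ZMod 2) :=
  ![![1, 0, 0], ![0, 1, 0], ![0, 0, 1], ![1, 1, 0], ![0, 1, 1], ![1, 1, 1], ![1, 0, 1]]

def g0 (x y : ZMod 7) : Fin 3 → ZMod 2 := if y = 0 then 0 else tab (x * y ^ 5 : ZMod 7)

def M1 : Matrix (Fin 3) (Fin 3) (ZMod 2) := !![0, 0, 1; 1, 0, 1; 0, 1, 0]
def M2 : Matrix (Fin 3) (Fin 3) (ZMod 2) := !![1, 0, 1; 1, 0, 0; 0, 1, 0]

lemma det1 : M1.det = 1 := by decide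
lemma det2 : M2.det = 1 := by decide

set_option maxRecDepth 100000 in
lemma check1 : ∀ a b c d : ZMod 7, a * d ≠ b * c →
    M1 *ᵥ (g0 a b + g0 c d) = g0 (a + 1 * b) b + g0 (c + 1 * d) d := by
  decide +kernel

set_option maxRecDepth 100000 in
lemma check2 : ∀ a b c d : ZMod 7, a * d ≠ b * c →
    M2 *ᵥ (g0 a b + g0 c d) = g0 a (b + 1 * a) + g0 c (d + 1 * c) := by
  decide +kernel

set_option maxRecDepth 100000 in
lemma scal : ∀ r : ZMod 7, r * r = 1 → ∀ a b : ZMod 7, g0 (r * a) (r * b) = g0 a b := by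
  decide +kernel

lemma wit : ∀ x : Fin 3 → ZMod 2, x ≠ 0 → ∃ z : ZMod 7, x = g0 1 0 + g0 z 1 := by
  decide +kernel

abbrev SL27 := SpecialLinearGroup (Fin 2) (ZMod 7)
abbrev SL32 := SpecialLinearGroup (Fin 3) (ZMod 2)

instance fact7 : Fact (Nat.Prime 7) := ⟨by norm_num⟩

/-- The generating set. -/
def gens : Set SL27 :=
  {SpecialLinearGroup.transvection zero_ne_one 1, SpecialLinearGroup.transvection one_ne_zero 1}

lemma closure_gens : Subgroup.closure gens = ⊤ := by
  rw [eq_top_iff]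
  intro g _
  refine ClassBase.transvection_induction (fun g => g ∈ Subgroup.closure gens) ?_
    (fun A B => mul_mem) g
  intro i j hij c
  have h1 : SpecialLinearGroup.transvection hij (1 : ZMod 7) ∈ Subgroup.closure gens := by
    apply Subgroup.subset_closure
    fin_cases i <;> fin_cases j <;> simp [gens] at hij ⊢
  let M : AddSubmonoid (ZMod 7) :=
    { carrier := {c | SpecialLinearGroup.transvection hij c ∈ Subgroup.closure gens}
      zero_mem' := by
        change SpecialLinearGroup.transvection hij (0 : ZMod 7) ∈ Subgroup.closure gens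
        rw [SpecialLinearGroup.transvection_coeff_zero]; exact one_mem _
      add_mem' := by
        intro a b ha hb
        change SpecialLinearGroup.transvection hij (a + b) ∈ Subgroup.closure gens
        rw [SpecialLinearGroup.transvection_add]
        exact mul_mem ha hb }
  have h2 : c ∈ M := by
    have h3 : c = c.val • (1 : ZMod 7) := by rw [nsmul_one, ZMod.natCast_zmod_val]
    rw [h3]
    exact M.nsmul_mem h1 _
  exact h2

lemma sl_smul (g : SL27) (v : Fin 2 → ZMod 7) :
    g • v = (g : Matrix (Fin 2) (Fin 2) (ZMod 7)) *ᵥ v := rfl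

lemma sl_smul3 (g : SL32) (v : Fin 3 → ZMod 2) :
    g • v = (g : Matrix (Fin 3) (Fin 3) (ZMod 2)) *ᵥ v := rfl

lemma smul_t01 (c : ZMod 7) (v : Fin 2 → ZMod 7) :
    (SpecialLinearGroup.transvection (zero_ne_one (α := Fin 2)) c) • v = ![v 0 + c * v 1, v 1] := by
  rw [sl_smul, transvection_mulVec_apply]
  funext k; fin_cases k <;> simp

lemma smul_t10 (c : ZMod 7) (v : Fin 2 → ZMod 7) :
    (SpecialLinearGroup.transvection (one_ne_zero (α := Fin 2)) c) • v = ![v 0, v 1 + c * v 0] := by
  rw [sl_smul, transvection_mulVec_apply]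
  funext k; fin_cases k <;> simp

/-- The image of `SL_3(2)` in the permutations of `F_2^3`. -/
noncomputable def T : Subgroup (Perm (Fin 3 → ZMod 2)) := (MulAction.toPermHom SL32 (Fin 3 → ZMod 2)).range

lemma toPerm_inj : Function.Injective (MulAction.toPermHom SL32 (Fin 3 → ZMod 2)) := by
  intro g h hgh
  apply sl_ext_vec
  intro v
  exact congrArg (fun σ : Perm (Fin 3 → ZMod 2) => σ v) hgh

/-- Bilinear nondegeneracy condition on pairs. -/
def Pr (p : (Fin 2 → ZMod 7) × (Fin 2 → ZMod 7)) : Prop := p.1 0 * p.2 1 ≠ p.1 1 * p.2 0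

/-- The relation. -/
def Rl (p : (Fin 2 → ZMod 7) × (Fin 2 → ZMod 7)) (a : Fin 3 → ZMod 2) : Bool :=
  decide (a = g0 (p.1 0) (p.1 1) + g0 (p.2 0) (p.2 1))

lemma Rl_iff (p : (Fin 2 → ZMod 7) × (Fin 2 → ZMod 7)) (a : Fin 3 → ZMod 2) :
    Rl p a = true ↔ a = g0 (p.1 0) (p.1 1) + g0 (p.2 0) (p.2 1) := by
  simp [Rl]

lemma exists_hom : ∃ φ : SL27 →* T, ∀ g x, Pr x → ∀ a, Rl (g • x) ((φ g : Perm (Fin 3 → ZMod 2)) a) = Rl x a := by
  refine exists_hom_rel Pr Rl gens closure_gens T ?_ ?_
  · have inj : ∀ (M : SL32) (a b : Fin 3 → ZMod 2), M • a = M • b ↔ a = b := by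
      intro M a b
      exact smul_left_cancel_iff M
    rintro s (rfl | rfl)
    · refine ⟨MulAction.toPermHom SL32 (Fin 3 → ZMod 2) ⟨M1, det1⟩, ⟨_, rfl⟩, ?_⟩
      rintro ⟨v, w⟩
      simp only [Pr, Prod.smul_mk, smul_t01]
      refine ⟨?_, ?_⟩
      · simp only [Matrix.cons_val_zero, Matrix.cons_val_one]
        rw [not_iff_not]
        constructor <;> intro h <;> linear_combination h
      · intro h a
        rw [Bool.eq_iff_iff, Rl_iff, Rl_iff]
        simp only [Matrix.cons_val_zero, Matrix.cons_val_one]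
        rw [← check1 _ _ _ _ h]
        exact inj ⟨M1, det1⟩ a _
    · refine ⟨MulAction.toPermHom SL32 (Fin 3 → ZMod 2) ⟨M2, det2⟩, ⟨_, rfl⟩, ?_⟩
      rintro ⟨v, w⟩
      simp only [Pr, Prod.smul_mk, smul_t10]
      refine ⟨?_, ?_⟩
      · simp only [Matrix.cons_val_zero, Matrix.cons_val_one]
        rw [not_iff_not]
        constructor <;> intro h <;> linear_combination h
      · intro h a
        rw [Bool.eq_iff_iff, Rl_iff, Rl_iff]
        simp only [Matrix.cons_val_zero, Matrix.cons_val_one]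
        rw [← check2 _ _ _ _ h]
        exact inj ⟨M2, det2⟩ a _
  · have key : ∀ a b : Fin 3 → ZMod 2, (∀ x, Pr x → Rl x a = Rl x b) → a ≠ 0 → a = b := by
      intro a b h ha
      obtain ⟨z, hz⟩ := wit a ha
      have h1 := h (![1, 0], ![z, 1]) (by simp [Pr])
      rw [Bool.eq_iff_iff, Rl_iff, Rl_iff] at h1
      simp only [Matrix.cons_val_zero, Matrix.cons_val_one] at h1
      have := h1.1 hz
      rw [this]; exact hz
    intro a b h
    by_cases ha : a = 0
    · by_cases hb : b = 0
      · rw [ha, hb]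
      · exact (key b a (fun x hx => (h x hx).symm) hb).symm
    · exact key a b h ha

theorem main_27 : Nonempty (ProjectiveSpecialLinearGroup (Fin 2) (ZMod 7) ≃* SL32) := by
  obtain ⟨φ, hφ⟩ := exists_hom
  have hsimple : IsSimpleGroup (ProjectiveSpecialLinearGroup (Fin 2) (ZMod 7)) :=
    ProjectiveSpecialLinearGroup.rank_two_simple (by rw [Nat.card_zmod]; norm_num)
  have hT : Nonempty (T ≃* SL32) := ⟨(MonoidHom.ofInjective toPerm_inj).symm⟩
  have hZ : Subgroup.center SL27 ≤ φ.ker := by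
    intro g hg
    rw [Matrix.SpecialLinearGroup.mem_center_iff] at hg
    obtain ⟨r, hr, hg⟩ := hg
    rw [Fintype.card_fin, sq] at hr
    rw [MonoidHom.mem_ker]
    apply Subtype.ext
    ext a : 1
    change (φ g : Perm (Fin 3 → ZMod 2)) a = a
    have h2 : ∀ v : Fin 2 → ZMod 7, g • v = ![r * v 0, r * v 1] := by
      intro v
      rw [sl_smul, ← hg]
      funext k; fin_cases k <;> simp [Matrix.mulVec, dotProduct]
    by_contra hne
    have key : ∀ b, b ≠ 0 → (φ g : Perm (Fin 3 → ZMod 2)) b = b := by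
      intro b hb
      obtain ⟨z, hz⟩ := wit b hb
      have h1 := hφ g (![1, 0], ![z, 1]) (by simp [Pr]) b
      rw [Bool.eq_iff_iff, Rl_iff, Rl_iff] at h1
      simp only [Prod.smul_mk, h2, Matrix.cons_val_zero, Matrix.cons_val_one, scal r hr] at h1
      rw [← hz] at h1
      simpa using h1
    by_cases ha : a = 0
    · have h0 : (φ g : Perm (Fin 3 → ZMod 2)) a ≠ 0 := by rw [ha] at hne ⊢; exact hne
      have := key _ h0
      exact hne ((φ g : Perm (Fin 3 → ZMod 2)).injective this)
    · exact hne (key a ha)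
  have hker : φ.ker = Subgroup.center SL27 := by
    apply ker_eq_center_of_simple hsimple φ hZ
    intro htop
    have h1 : SpecialLinearGroup.transvection (zero_ne_one (α := Fin 2)) (1 : ZMod 7) ∈ φ.ker := by
      rw [htop]; trivial
    rw [MonoidHom.mem_ker] at h1
    have h2 := hφ (SpecialLinearGroup.transvection (zero_ne_one (α := Fin 2)) (1 : ZMod 7))
      (![1, 0], ![0, 1]) (by simp [Pr]) (tab 0)
    rw [h1] at h2
    simp only [Rl, Prod.smul_mk, smul_t01] at h2
    revert h2
    decide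
  obtain ⟨e⟩ := hT
  have : Finite T := Finite.of_equiv _ e.symm.toEquiv
  have h168 : Nat.card SL32 = 168 := by
    have h1 := Cfsg.Agent.H4.card_SL_mul (F := ZMod 2) 3 (by norm_num)
    rw [Matrix.card_GL_field, ZMod.card, Fin.prod_univ_three] at h1
    generalize Nat.card (SpecialLinearGroup (Fin 3) (ZMod 2)) = N at h1 ⊢
    norm_num at h1
    omega
  have h168' : Nat.card (ProjectiveSpecialLinearGroup (Fin 2) (ZMod 7)) = 168 := by
    have h1 := Cfsg.Agent.H4.card_SL_mul (F := ZMod 7) 2 (by norm_num)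
    rw [Matrix.card_GL_field, ZMod.card, Fin.prod_univ_two,
      ← Cfsg.Agent.H4.card_PSL_mul 2 (by norm_num), ZMod.card] at h1
    have hg : Nat.gcd 2 (7 - 1) = 2 := by decide
    rw [hg] at h1
    generalize Nat.card (ProjectiveSpecialLinearGroup (Fin 2) (ZMod 7)) = N at h1 ⊢
    norm_num at h1
    omega
  obtain ⟨e'⟩ := quot_center_equiv φ hker (by rw [Nat.card_congr e.toEquiv, h168]; exact h168')
  exact ⟨e'.trans e⟩

end PSL27

end Cfsg.Agent.ClassBase
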