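import Mathlib
import Cfsg.Agent.ClassBase.RelHom
import Cfsg.Agent.ClassBase.PSL27
import Cfsg.Agent.ClassBase.SmallIso
import Cfsg.Agent.H4.CardSL

set_option autoImplicit false
set_option linter.unusedVariables false
set_option linter.unusedSectionVars false

/-! `PSL_4(2) ≅ A_8`, through the 28 nondegenerate alternating forms on `F_2^4` and the 28 pairs
from 8 points. -/

namespace Cfsg.Agent.ClassBase.PSL42

open Matrix Equiv

abbrev C6 := Fin 6 → ZMod 2
abbrev M4 := Matrix (Fin 4) (Fin 4) (ZMod 2)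

/-- Pairs attached to alternating forms of Pfaffian 1. -/
def tab : List (Fin 8 × Fin 8) :=
  [(0, 0), (0, 0), (0, 0), (0, 0), (0, 0), (0, 0), (0, 0), (0, 0), (0, 0), (0, 0), (0, 0), (0, 0),
   (6, 7), (3, 5), (0, 2), (1, 4), (0, 0), (0, 0), (0, 1), (2, 4), (0, 0), (0, 0), (5, 6), (3, 7),
   (0, 0), (0, 0), (5, 7), (3, 6), (1, 2), (0, 4), (0, 0), (0, 0), (0, 0), (3, 4), (0, 0), (1, 5),
   (0, 0), (2, 7), (0, 0), (0, 6), (0, 0), (2, 6), (0, 0), (0, 7), (4, 5), (0, 0), (1, 3), (0, 0),
   (0, 0), (0, 5), (2, 3), (0, 0), (0, 0), (1, 6), (4, 7), (0, 0), (0, 0), (1, 7), (4, 6), (0, 0),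
   (0, 3), (0, 0), (0, 0), (2, 5)]

def pr (c : C6) : Fin 8 × Fin 8 :=
  tab.getD (32 * (c 0).val + 16 * (c 1).val + 8 * (c 2).val + 4 * (c 3).val + 2 * (c 4).val + (c 5).val) (0, 0)

def rel (c : C6) (a : Fin 8) : Bool := decide (a = (pr c).1) || decide (a = (pr c).2)

def pf (c : C6) : ZMod 2 := c 0 * c 5 + c 1 * c 4 + c 2 * c 3

def alt (c : C6) : M4 := !![0, c 0, c 1, c 2; c 0, 0, c 3, c 4; c 1, c 3, 0, c 5; c 2, c 4, c 5, 0]

def read (A : M4) : C6 := ![A 0 1, A 0 2, A 0 3, A 1 2, A 1 3, A 2 3]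

lemma read_alt (c : C6) : read (alt c) = c := by
  funext k; fin_cases k <;> simp [read, alt]

/-- Companion involutions. -/
def tabs : Fin 4 → Fin 4 → (Fin 8 → Fin 8) :=
  ![![id, ![5, 7, 6, 4, 3, 0, 2, 1], ![1, 0, 3, 2, 6, 7, 4, 5], ![3, 2, 1, 0, 5, 4, 7, 6]],
    ![![6, 5, 7, 4, 3, 1, 0, 2], id, ![2, 3, 0, 1, 5, 4, 7, 6], ![1, 0, 3, 2, 7, 6, 5, 4]],
    ![![1, 0, 4, 7, 2, 6, 5, 3], ![4, 2, 1, 5, 0, 3, 7, 6], id, ![5, 6, 7, 4, 3, 0, 1, 2]],
    ![![2, 4, 0, 5, 1, 3, 7, 6], ![1, 0, 4, 6, 2, 7, 3, 5], ![7, 5, 6, 4, 3, 1, 2, 0], id]]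

lemma tabs_inv : ∀ i j : Fin 4, ∀ x, tabs i j (tabs i j x) = x := by decide +kernel

def sg (i j : Fin 4) : Perm (Fin 8) := ⟨tabs i j, tabs i j, tabs_inv i j, tabs_inv i j⟩

lemma sg_even : ∀ i j : Fin 4, Perm.sign (sg i j) = 1 := by decide +kernel

/-- Entry of `T A Tᵀ` for `T = 1 + E_ij`. -/
def ent (i j : Fin 4) (A : M4) (k l : Fin 4) : ZMod 2 :=
  A k l + (if k = i then A j l else 0) + (if l = i then A k j else 0) + (if k = i ∧ l = i then A j j else 0)

lemma ent_eq (i j : Fin 4) (A : M4) (k l : Fin 4) :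
    (Matrix.transvection i j (1 : ZMod 2) * A * (Matrix.transvection i j (1 : ZMod 2))ᵀ : M4) k l = ent i j A k l := by
  have h : ∀ a b : Fin 4, (Matrix.transvection i j (1 : ZMod 2)) a b = (if a = b then 1 else 0) + (if a = i ∧ b = j then 1 else 0) := by
    intro a b
    rw [Matrix.transvection, Matrix.add_apply, Matrix.one_apply, Matrix.single_apply]
    congr 1
    simp only [eq_comm]
  simp only [Matrix.mul_apply, Matrix.transpose_apply, h, ent]
  simp only [add_mul, mul_add, Finset.sum_add_distrib, ite_mul, mul_ite, one_mul, mul_one, zero_mul, mul_zero,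
    Finset.sum_ite_eq, Finset.mem_univ, if_true]
  by_cases hk : k = i <;> by_cases hl : l = i <;> simp [hk, hl]
  ring

/-- Image of the form `c` under the transvection `1 + E_ij`, in coordinates. -/
def act (i j : Fin 4) (c : C6) : C6 :=
  ![ent i j (alt c) 0 1, ent i j (alt c) 0 2, ent i j (alt c) 0 3, ent i j (alt c) 1 2,
    ent i j (alt c) 1 3, ent i j (alt c) 2 3]

set_option maxRecDepth 100000 in
lemma check1 : ∀ i j : Fin 4, i ≠ j → ∀ c : C6, pf c = 1 → pf (act i j c) = 1 := by
  decide +kernel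

set_option maxRecDepth 100000 in
lemma check2 : ∀ i j : Fin 4, i ≠ j → ∀ c : C6, pf c = 1 → ∀ a,
    rel (act i j c) (tabs i j a) = rel c a := by
  decide +kernel

set_option maxRecDepth 100000 in
lemma sep : ∀ a b : Fin 8, (∀ c : C6, pf c = 1 → rel c a = rel c b) → a = b := by
  decide +kernel

/-- The invariant set of matrices. -/
def Pr (A : M4) : Prop := Aᵀ = A ∧ (∀ i, A i i = 0) ∧ pf (read A) = 1

lemma alt_read {A : M4} (h : Aᵀ = A) (h0 : ∀ i, A i i = 0) : alt (read A) = A := by
  have hs : ∀ i j, A j i = A i j := fun i j => congrFun (congrFun h i) j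
  ext i j
  fin_cases i <;> fin_cases j <;> simp [alt, read, h0, hs 1 0, hs 2 0, hs 3 0, hs 2 1, hs 3 1, hs 3 2]

abbrev SL42 := SpecialLinearGroup (Fin 4) (ZMod 2)

/-- Action on matrices by congruence. -/
@[reducible] def congAction : MulAction SL42 M4 where
  smul g A := (g : M4) * A * (g : M4)ᵀ
  one_smul A := by
    change ((1 : SL42) : M4) * A * ((1 : SL42) : M4)ᵀ = A
    simp
  mul_smul g h A := by
    change ((g * h : SL42) : M4) * A * ((g * h : SL42) : M4)ᵀ = (g : M4) * ((h : M4) * A * (h : M4)ᵀ) * (g : M4)ᵀ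
    rw [Matrix.SpecialLinearGroup.coe_mul, Matrix.transpose_mul]
    simp only [Matrix.mul_assoc]

/-- The generating set. -/
def gens : Set SL42 := {g | ∃ (i j : Fin 4) (hij : i ≠ j), g = SpecialLinearGroup.transvection hij 1}

lemma closure_gens : Subgroup.closure gens = ⊤ := by
  rw [eq_top_iff]
  intro g _
  refine ClassBase.transvection_induction (fun g => g ∈ Subgroup.closure gens) ?_
    (fun A B => mul_mem) g
  intro i j hij c
  have hc : c = 0 ∨ c = 1 := by revert c; decide
  rcases hc with rfl | rfl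
  · rw [SpecialLinearGroup.transvection_coeff_zero]; exact one_mem _
  · exact Subgroup.subset_closure ⟨i, j, hij, rfl⟩

lemma smul_eq {i j : Fin 4} (hij : i ≠ j) (A : M4) (k l : Fin 4) :
    letI := congAction
    ((SpecialLinearGroup.transvection hij (1 : ZMod 2) : SL42) • A : M4) k l = ent i j A k l := by
  rw [← ent_eq]
  rfl

lemma read_smul {i j : Fin 4} (hij : i ≠ j) {A : M4} (h : Aᵀ = A) (h0 : ∀ i, A i i = 0) :
    letI := congAction
    read ((SpecialLinearGroup.transvection hij (1 : ZMod 2) : SL42) • A : M4) = act i j (read A) := by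
  funext k
  simp only [act, alt_read h h0]
  fin_cases k <;> exact smul_eq hij A _ _

lemma Pr_smul {i j : Fin 4} (hij : i ≠ j) {A : M4} (hA : Pr A) :
    letI := congAction
    Pr ((SpecialLinearGroup.transvection hij (1 : ZMod 2) : SL42) • A : M4) := by
  obtain ⟨h, h0, hp⟩ := hA
  have h2 : (2 : ZMod 2) = 0 := by decide
  have hs : ∀ i j, A j i = A i j := fun i j => congrFun (congrFun h i) j
  refine ⟨?_, ?_, ?_⟩
  · change ((SpecialLinearGroup.transvection hij (1 : ZMod 2) : M4) * A *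
      (SpecialLinearGroup.transvection hij (1 : ZMod 2) : M4)ᵀ)ᵀ = _
    rw [Matrix.transpose_mul, Matrix.transpose_mul, Matrix.transpose_transpose, h, ← Matrix.mul_assoc]
    rfl
  · intro k
    rw [smul_eq]
    simp only [ent, h0, hs k j]
    by_cases hk : k = i
    · simp only [hk, if_true, and_self]
      rw [add_zero, zero_add, ← two_mul, h2, zero_mul]
    · simp [hk]
  · rw [read_smul hij h h0]
    exact check1 i j hij _ hp

theorem main : Nonempty (ProjectiveSpecialLinearGroup (Fin 4) (ZMod 2) ≃* alternatingGroup (Fin 8)) := by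
  letI := congAction
  obtain ⟨φ, hφ⟩ := exists_hom_rel (G := SL42) (X := M4) Pr (fun A a => rel (read A) a) gens
    closure_gens (alternatingGroup (Fin 8)) (by
      rintro _ ⟨i, j, hij, rfl⟩
      refine ⟨sg i j, by rw [Perm.mem_alternatingGroup]; exact sg_even i j, fun A => ⟨⟨?_, ?_⟩, ?_⟩⟩
      · intro h
        have h1 := Pr_smul hij h
        rw [← mul_smul, ← SpecialLinearGroup.transvection_add] at h1
        have h2 : (1 + 1 : ZMod 2) = 0 := by decide
        rw [h2, SpecialLinearGroup.transvection_coeff_zero, one_smul] at h1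
        exact h1
      · exact Pr_smul hij
      · intro hA a
        rw [read_smul hij hA.1 hA.2.1]
        exact check2 i j hij _ hA.2.2 a) (by
      intro a b h
      apply sep
      intro c hc
      have := h (alt c) ⟨?_, ?_, by rw [read_alt]; exact hc⟩
      · simpa only [read_alt] using this
      · ext i j
        fin_cases i <;> fin_cases j <;> rfl
      · intro i
        fin_cases i <;> rfl)
  have hsimple : IsSimpleGroup (ProjectiveSpecialLinearGroup (Fin 4) (ZMod 2)) := psl_fin_simple 4 (by norm_num)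
  have hc : Subgroup.center SL42 = ⊥ := by
    have h3 := Cfsg.Agent.H4.card_center_SL (F := ZMod 2) 4 (by norm_num)
    rw [ZMod.card] at h3
    exact Subgroup.card_eq_one.1 h3
  have hker : φ.ker = Subgroup.center SL42 := by
    apply ker_eq_center_of_simple hsimple φ (by rw [hc]; exact bot_le)
    intro htop
    have h1 : (SpecialLinearGroup.transvection (show (0 : Fin 4) ≠ 1 by decide) (1 : ZMod 2) : SL42) ∈ φ.ker := by
      rw [htop]; trivial
    rw [MonoidHom.mem_ker] at h1
    -- the form `e_0 ∧ e_2 + e_1 ∧ e_3` is moved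
    have hP : Pr (alt ![0, 0, 1, 1, 0, 0]) := by
      refine ⟨?_, ?_, ?_⟩
      · ext i j; fin_cases i <;> fin_cases j <;> rfl
      · intro i; fin_cases i <;> rfl
      · rw [read_alt]; decide
    have key : ∀ a, rel (act 0 1 ![0, 0, 1, 1, 0, 0]) a = rel ![0, 0, 1, 1, 0, 0] a := by
      intro a
      have h2 := hφ (SpecialLinearGroup.transvection (show (0 : Fin 4) ≠ 1 by decide) (1 : ZMod 2)) _ hP a
      rw [h1] at h2
      rw [read_smul _ hP.1 hP.2.1, read_alt] at h2
      exact h2
    revert key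
    decide +kernel
  refine quot_center_equiv φ hker ?_
  have h20160 : Nat.card (alternatingGroup (Fin 8)) = 20160 := by
    rw [Nat.card_eq_fintype_card]
    have := two_mul_card_alternatingGroup (α := Fin 8)
    rw [Fintype.card_perm, Fintype.card_fin] at this
    have h40320 : Nat.factorial 8 = 40320 := by decide
    omega
  rw [h20160]
  have h1 := Cfsg.Agent.H4.card_SL_mul (F := ZMod 2) 4 (by norm_num)
  rw [Matrix.card_GL_field, ZMod.card, Fin.prod_univ_four,
    ← Cfsg.Agent.H4.card_PSL_mul 4 (by norm_num), ZMod.card] at h1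
  have hg : Nat.gcd 4 (2 - 1) = 1 := by decide
  rw [hg] at h1
  change Nat.card (ProjectiveSpecialLinearGroup (Fin 4) (ZMod 2)) = 20160
  generalize Nat.card (ProjectiveSpecialLinearGroup (Fin 4) (ZMod 2)) = N at h1 ⊢
  norm_num at h1
  omega

end Cfsg.Agent.ClassBase.PSL42
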